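import Groth.Agent.GrpschAbsch.SchDense

/-!
# Schematic density restricts to opens
-/

universe u

open CategoryTheory AlgebraicGeometry

set_option backward.isDefEq.respectTransparency.types false

namespace Groth.Misc3Dense

theorem isSchematicallyDense_preimage {X : Scheme.{u}} {U : X.Opens} (hU : CInt.IsSchematicallyDense U)
    (W : X.Opens) : CInt.IsSchematicallyDense (W.ι ⁻¹ᵁ U) := by
  intro V a b hab
  refine hU (W.ι ''ᵁ V) ?_
  have he : W.ι ''ᵁ V ⊓ U ≤ W.ι ''ᵁ (V ⊓ W.ι ⁻¹ᵁ U) := by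
    rintro x ⟨⟨y, hy, rfl⟩, hxU⟩
    exact ⟨y, ⟨hy, hxU⟩, rfl⟩
  change X.presheaf.map (W.ι.opensFunctor.map (homOfLE (inf_le_left : V ⊓ W.ι ⁻¹ᵁ U ≤ V))).op a =
    X.presheaf.map (W.ι.opensFunctor.map (homOfLE (inf_le_left : V ⊓ W.ι ⁻¹ᵁ U ≤ V))).op b at hab
  have h := congrArg (X.presheaf.map (homOfLE he).op) hab
  rw [← CommRingCat.comp_apply, ← CommRingCat.comp_apply, ← Functor.map_comp] at h
  exact h

theorem isSchemeTheoreticallyDominant_homOfLE {X : Scheme.{u}} {U : X.Opens}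
    (hU : CInt.IsSchematicallyDense U) (W : X.Opens) :
    IsSchemeTheoreticallyDominant (X.homOfLE (inf_le_right : U ⊓ W ≤ W)) := by
  haveI := Groth.GrpschAbsch.isSchemeTheoreticallyDominant_ι _ (isSchematicallyDense_preimage hU W)
  have he : W.ι ''ᵁ (W.ι ⁻¹ᵁ U) = U ⊓ W := by
    rw [Scheme.Hom.image_preimage_eq_opensRange_inf, Scheme.Opens.opensRange_ι, inf_comm]
  have e : X.homOfLE (inf_le_right : U ⊓ W ≤ W) =
      (X.isoOfEq he).inv ≫ (W.ι.isoImage (W.ι ⁻¹ᵁ U)).inv ≫ (W.ι ⁻¹ᵁ U).ι := by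
    rw [← cancel_mono W.ι]
    simp
  rw [e]
  infer_instance

theorem isReduced_of_nilradical_eq_bot {X : Scheme.{u}} (h : X.nilradical = ⊥) : IsReduced X := by
  refine ⟨fun U => ⟨fun s hs => ?_⟩⟩
  refine X.IsSheaf.section_ext fun x hx => ?_
  obtain ⟨_, ⟨V, hV, rfl⟩, hxV, hVU : V ≤ U⟩ :=
    X.isBasis_affineOpens.exists_subset_of_mem_open hx U.isOpen
  refine ⟨V, hVU, hxV, ?_⟩
  have h1 : X.presheaf.map (homOfLE hVU).op s ∈ X.nilradical.ideal ⟨V, hV⟩ :=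
    show X.presheaf.map (homOfLE hVU).op s ∈ (Ideal.radical ⊥) from
      (hs.map (X.presheaf.map (homOfLE hVU).op).hom).imp fun n hn => Ideal.mem_bot.2 hn
  rw [h, Scheme.IdealSheafData.ideal_bot] at h1
  rw [map_zero]
  exact Ideal.mem_bot.1 h1

end Groth.Misc3Dense
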